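import Groth.Prelude.Def_Exal
import Groth.Prelude.Def_Exal2
import Groth.Prelude.Def_Exal3
import Groth.Prelude.Def_EGA41
import Mathlib

/-!
# The characteristic homomorphism of an extension trivial over the base
-/

set_option autoImplicit false
universe u v

open scoped TensorProduct

namespace Groth.Agent.CharHomLib

variable {A : Type u} {B C L : Type v} [CommRing A] [CommRing B] [CommRing C] [Algebra A B] [Algebra B C]
  [Algebra A C] [IsScalarTower A B C] [AddCommGroup L] [Module C L] {X : Exal.Ext B C L}

/-- An `A`-algebra section of the middle ring, recorded on the carrier. -/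
structure Sect (A : Type u) {B C L : Type v} [CommRing A] [CommRing B] [CommRing C] [Algebra A B] [Algebra B C]
    [Algebra A C] [IsScalarTower A B C] [AddCommGroup L] [Module C L] (X : Exal.Ext B C L) where
  toAlgHom : C →ₐ[A] X.CharCarrier A
  proj_apply : ∀ c, algebraMap (X.CharCarrier A) C (toAlgHom c) = c

theorem nonempty_sect (hX : X.IsTrivialOver A) : Nonempty (Sect A X) := by
  obtain ⟨s, hs⟩ := hX
  exact ⟨⟨{ toFun := fun c => s c, map_one' := map_one s, map_mul' := map_mul s, map_zero' := map_zero s,
            map_add' := map_add s, commutes' := fun a => s.commutes a }, hs⟩⟩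

theorem isTrivialOver_of_sect (S : Sect A X) : X.IsTrivialOver A :=
  ⟨{ toFun := fun c => S.toAlgHom c, map_one' := map_one S.toAlgHom, map_mul' := map_mul S.toAlgHom,
     map_zero' := map_zero S.toAlgHom, map_add' := map_add S.toAlgHom, commutes' := fun a => S.toAlgHom.commutes a },
    S.proj_apply⟩

theorem inclC_injective : Function.Injective (X.inclC A) := X.isExtension.incl_injective

theorem mul_inclC (x : X.CharCarrier A) (z : L) :
    x * X.inclC A z = X.inclC A (algebraMap (X.CharCarrier A) C x • z) := X.isExtension.mul_incl x z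

theorem proj_eq_zero_iff (x : X.CharCarrier A) :
    algebraMap (X.CharCarrier A) C x = 0 ↔ x ∈ Set.range (X.inclC A) := X.isExtension.exact x

theorem proj_surjective : Function.Surjective (algebraMap (X.CharCarrier A) C) := X.isExtension.proj_surjective

theorem proj_inclC (l : L) : algebraMap (X.CharCarrier A) C (X.inclC A l) = 0 :=
  (proj_eq_zero_iff _).mpr ⟨l, rfl⟩

namespace Sect

variable (S : Sect A X)

/-- The `L`-component. -/
noncomputable def comp (e : X.CharCarrier A) : L :=
  ((proj_eq_zero_iff (e - S.toAlgHom (algebraMap (X.CharCarrier A) C e))).mp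
    (by rw [map_sub, S.proj_apply, sub_self])).choose

theorem inclC_comp (e : X.CharCarrier A) :
    X.inclC A (S.comp e) = e - S.toAlgHom (algebraMap (X.CharCarrier A) C e) :=
  ((proj_eq_zero_iff (e - S.toAlgHom (algebraMap (X.CharCarrier A) C e))).mp
    (by rw [map_sub, S.proj_apply, sub_self])).choose_spec

theorem decomp (e : X.CharCarrier A) :
    S.toAlgHom (algebraMap (X.CharCarrier A) C e) + X.inclC A (S.comp e) = e := by
  rw [inclC_comp]; abel

theorem comp_inclC (l : L) : S.comp (X.inclC A l) = l := inclC_injective (A := A) (by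
  rw [inclC_comp, proj_inclC, map_zero, sub_zero])

theorem comp_add (e e' : X.CharCarrier A) : S.comp (e + e') = S.comp e + S.comp e' := inclC_injective (A := A) (by
  rw [map_add (X.inclC A), inclC_comp, inclC_comp, inclC_comp, map_add, map_add]; abel)

theorem comp_mul (e e' : X.CharCarrier A) : S.comp (e * e') =
    algebraMap (X.CharCarrier A) C e • S.comp e' + algebraMap (X.CharCarrier A) C e' • S.comp e :=
  inclC_injective (A := A) (by
    rw [map_add (X.inclC A), ← mul_inclC, show X.inclC A (algebraMap (X.CharCarrier A) C e' • S.comp e) =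
      S.toAlgHom (algebraMap (X.CharCarrier A) C e') * X.inclC A (S.comp e) by rw [mul_inclC, S.proj_apply],
      inclC_comp, inclC_comp, inclC_comp, map_mul, map_mul]
    ring)

theorem comp_algebraMap (a : A) : S.comp (algebraMap A (X.CharCarrier A) a) = 0 := inclC_injective (A := A) (by
  rw [inclC_comp, ← IsScalarTower.algebraMap_apply A (X.CharCarrier A) C, AlgHom.commutes, sub_self, map_zero])

theorem comp_one : S.comp 1 = 0 := by
  simpa using S.comp_algebraMap 1

theorem comp_add_incl (c : C) (l : L) : S.comp (S.toAlgHom c + X.inclC A l) = l := inclC_injective (A := A) (by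
  rw [inclC_comp, map_add, S.proj_apply, proj_inclC, add_zero, add_sub_cancel_left])

/-- The retraction of `deltaL` attached to a section. -/
theorem exists_retraction : ∃ R : C ⊗[X.CharCarrier A] Ω[X.CharCarrier A⁄A] →ₗ[C] L,
    (∀ z, R (X.deltaL A z) = z) ∧
    ∀ (c : C) (e : X.CharCarrier A), R (c ⊗ₜ[X.CharCarrier A] KaehlerDifferential.D A (X.CharCarrier A) e) = c • S.comp e := by
  letI : Module (X.CharCarrier A) L := Module.compHom L (algebraMap (X.CharCarrier A) C)
  letI : Module A L := Module.compHom L (algebraMap A C)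
  haveI : IsScalarTower A (X.CharCarrier A) L := IsScalarTower.of_algebraMap_smul fun a l => by
    show algebraMap (X.CharCarrier A) C (algebraMap A (X.CharCarrier A) a) • l = algebraMap A C a • l
    rw [← IsScalarTower.algebraMap_apply A (X.CharCarrier A) C]
  haveI : IsScalarTower (X.CharCarrier A) C L := IsScalarTower.of_algebraMap_smul fun x l => rfl
  let Dl : (X.CharCarrier A) →ₗ[A] L :=
    { toFun := S.comp
      map_add' := S.comp_add
      map_smul' := fun a e => by
        show S.comp (a • e) = algebraMap A C a • S.comp e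
        rw [Algebra.smul_def, comp_mul, comp_algebraMap, smul_zero, add_zero,
          ← IsScalarTower.algebraMap_apply A (X.CharCarrier A) C] }
  let Dv : Derivation A (X.CharCarrier A) L :=
    { toLinearMap := Dl
      map_one_eq_zero' := S.comp_one
      leibniz' := S.comp_mul }
  refine ⟨LinearMap.liftBaseChange C Dv.liftKaehlerDifferential, fun z => ?_, fun c e => ?_⟩
  · show LinearMap.liftBaseChange C Dv.liftKaehlerDifferential
      ((1 : C) ⊗ₜ[X.CharCarrier A] KaehlerDifferential.D A (X.CharCarrier A) (X.inclC A z)) = z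
    rw [LinearMap.liftBaseChange_tmul, one_smul, Derivation.liftKaehlerDifferential_comp_D]
    exact S.comp_inclC z
  · rw [LinearMap.liftBaseChange_tmul, Derivation.liftKaehlerDifferential_comp_D]
    rfl

end Sect

theorem deltaL_injective (hX : X.IsTrivialOver A) : Function.Injective (X.deltaL A) := by
  obtain ⟨S⟩ := nonempty_sect hX
  obtain ⟨R, hR, -⟩ := S.exists_retraction
  exact Function.LeftInverse.injective hR

theorem baseChangeToMiddle_tmul (c : C) (b : B) :
    X.baseChangeToMiddle A (c ⊗ₜ[B] KaehlerDifferential.D A B b) =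
      c ⊗ₜ[X.CharCarrier A] KaehlerDifferential.D A (X.CharCarrier A) (algebraMap B (X.CharCarrier A) b) := by
  rw [Exal.Ext.baseChangeToMiddle, TensorProduct.lift.tmul, LinearMap.mk₂_apply, KaehlerDifferential.map_D]

theorem baseChangeToMiddle_smul (c : C) (w : C ⊗[B] Ω[B⁄A]) :
    X.baseChangeToMiddle A (c • w) = c • X.baseChangeToMiddle A w := by
  induction w using TensorProduct.induction_on with
  | zero => rw [smul_zero, map_zero, smul_zero]
  | tmul c' ω =>
    rw [TensorProduct.smul_tmul', Exal.Ext.baseChangeToMiddle, TensorProduct.lift.tmul, TensorProduct.lift.tmul,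
      LinearMap.mk₂_apply, LinearMap.mk₂_apply, TensorProduct.smul_tmul']
  | add x y hx hy => rw [smul_add, map_add, hx, hy, map_add, smul_add]

/-- `C ⊗_B Ω_{B/A}` is spanned by the `1 ⊗ d b`. -/
theorem span_one_tmul_D :
    Submodule.span C (Set.range fun b : B => (1 : C) ⊗ₜ[B] KaehlerDifferential.D A B b) = ⊤ := by
  rw [eq_top_iff]
  rintro w -
  induction w using TensorProduct.induction_on with
  | zero => exact zero_mem _
  | tmul c ω =>
    have hω : ω ∈ Submodule.span B (Set.range (KaehlerDifferential.D A B)) := by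
      rw [KaehlerDifferential.span_range_derivation]; trivial
    induction hω using Submodule.span_induction generalizing c with
    | mem x hx =>
      obtain ⟨b, rfl⟩ := hx
      rw [← mul_one c, ← smul_eq_mul, ← TensorProduct.smul_tmul']
      exact Submodule.smul_mem _ _ (Submodule.subset_span ⟨b, rfl⟩)
    | zero => rw [TensorProduct.tmul_zero]; exact zero_mem _
    | add x y _ _ hx hy => rw [TensorProduct.tmul_add]; exact add_mem (hx c) (hy c)
    | smul b x _ hx => rw [← TensorProduct.smul_tmul]; exact hx _
  | add x y hx hy => exact add_mem hx hy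

theorem mapBaseChange_baseChangeToMiddle (w : C ⊗[B] Ω[B⁄A]) :
    KaehlerDifferential.mapBaseChange A (X.CharCarrier A) C (X.baseChangeToMiddle A w) =
      KaehlerDifferential.mapBaseChange A B C w := by
  have hw : w ∈ Submodule.span C (Set.range fun b : B => (1 : C) ⊗ₜ[B] KaehlerDifferential.D A B b) := by
    rw [span_one_tmul_D]; trivial
  induction hw using Submodule.span_induction with
  | mem x hx =>
    obtain ⟨b, rfl⟩ := hx
    rw [baseChangeToMiddle_tmul, KaehlerDifferential.mapBaseChange_tmul, KaehlerDifferential.mapBaseChange_tmul,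
      KaehlerDifferential.map_D, KaehlerDifferential.map_D, ← IsScalarTower.algebraMap_apply]
  | zero => simp
  | add x y _ _ hx hy => rw [map_add, map_add, hx, hy, map_add]
  | smul c x _ hx => rw [baseChangeToMiddle_smul, map_smul, map_smul, hx]

theorem exists_deltaL_eq (y : C ⊗[X.CharCarrier A] Ω[X.CharCarrier A⁄A])
    (hy : KaehlerDifferential.mapBaseChange A (X.CharCarrier A) C y = 0) : ∃ l, X.deltaL A l = y := by
  have hy' : y ∈ (LinearMap.ker (KaehlerDifferential.mapBaseChange A (X.CharCarrier A) C)).restrictScalars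
      (X.CharCarrier A) := hy
  rw [← KaehlerDifferential.range_kerCotangentToTensor A (X.CharCarrier A) C proj_surjective] at hy'
  obtain ⟨t, ht⟩ := hy'
  obtain ⟨x, rfl⟩ := Ideal.toCotangent_surjective _ t
  obtain ⟨l, hl⟩ := (proj_eq_zero_iff x.1).mp x.2
  refine ⟨l, ?_⟩
  rw [← ht, KaehlerDifferential.kerCotangentToTensor_toCotangent, ← hl]
  rfl

/-- The map `C ⊗_B Ω_{B/A} → L` attached to a section. -/
theorem Sect.exists_phi (S : Sect A X) : ∃ Φ : C ⊗[B] Ω[B⁄A] →ₗ[C] L,
    (∀ b : B, Φ ((1 : C) ⊗ₜ[B] KaehlerDifferential.D A B b) = S.comp (algebraMap B (X.CharCarrier A) b)) ∧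
    ∀ χ : ↥(EGA41.imperfection A B C) →ₗ[C] L, X.IsCharHom A χ ↔ ∀ z, χ z = Φ (z : C ⊗[B] Ω[B⁄A]) := by
  obtain ⟨R, hR, hR'⟩ := S.exists_retraction
  refine ⟨{ toFun := fun w => R (X.baseChangeToMiddle A w)
            map_add' := fun a b => by rw [map_add, map_add]
            map_smul' := fun c w => by rw [baseChangeToMiddle_smul, map_smul]; rfl }, fun b => ?_, fun χ => ?_⟩
  · show R (X.baseChangeToMiddle A _) = _
    rw [baseChangeToMiddle_tmul, hR', one_smul]
  · constructor
    · intro h z
      show χ z = R (X.baseChangeToMiddle A (z : C ⊗[B] Ω[B⁄A]))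
      rw [← h z, hR]
    · intro h z
      obtain ⟨l, hl⟩ := exists_deltaL_eq (X.baseChangeToMiddle A (z : C ⊗[B] Ω[B⁄A]))
        (by rw [mapBaseChange_baseChangeToMiddle]; exact z.2)
      rw [h z]
      show X.deltaL A (R (X.baseChangeToMiddle A (z : C ⊗[B] Ω[B⁄A]))) = _
      rw [← hl, hR]

end Groth.Agent.CharHomLib
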