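import Groth.Agent.CharHomLib.Basic

/-!
# Classifying extensions trivial over the base by their characteristic homomorphism
-/

set_option autoImplicit false
universe u v

open scoped TensorProduct

namespace Groth.Agent.CharHomLib

variable {A : Type u} {B C L : Type v} [CommRing A] [CommRing B] [CommRing C] [Algebra A B] [Algebra B C]
  [Algebra A C] [IsScalarTower A B C] [AddCommGroup L] [Module C L]

/-- A map on `C ⊗ Ω_{B/A}` killing the imperfection module extends to `Ω_{C/A}`. -/
theorem exists_extension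
    (h : Module.Injective C L ∨
      ∃ s : Ω[C⁄B] →ₗ[C] Ω[C⁄A], ∀ ω : Ω[C⁄B], KaehlerDifferential.map A B C C (s ω) = ω)
    (Φ : C ⊗[B] Ω[B⁄A] →ₗ[C] L) (hΦ : EGA41.imperfection A B C ≤ LinearMap.ker Φ) :
    ∃ ψ : Ω[C⁄A] →ₗ[C] L, ∀ w, ψ (KaehlerDifferential.mapBaseChange A B C w) = Φ w := by
  rcases h with h | ⟨s, hs⟩
  · let m := (EGA41.imperfection A B C).liftQ (KaehlerDifferential.mapBaseChange A B C) le_rfl
    have hm : Function.Injective m := by
      rw [← LinearMap.ker_eq_bot, Submodule.ker_liftQ, ← Submodule.map_bot (Submodule.mkQ _),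
        EGA41.imperfection, Submodule.mkQ_map_self]
      simp
    obtain ⟨ψ, hψ⟩ := h.out m hm ((EGA41.imperfection A B C).liftQ Φ hΦ)
    exact ⟨ψ, fun w => hψ (Submodule.Quotient.mk w)⟩
  · let f := KaehlerDifferential.mapBaseChange A B C
    let P : Ω[C⁄A] →ₗ[C] Ω[C⁄A] := LinearMap.id - s.comp (KaehlerDifferential.map A B C C)
    have hP : ∀ x, P x ∈ LinearMap.range f := fun x => by
      rw [KaehlerDifferential.range_mapBaseChange, LinearMap.mem_ker]
      show KaehlerDifferential.map A B C C (x - s (KaehlerDifferential.map A B C C x)) = 0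
      rw [map_sub, hs, sub_self]
    refine ⟨((EGA41.imperfection A B C).liftQ Φ hΦ).comp (f.quotKerEquivRange.symm.toLinearMap.comp
      (P.codRestrict (LinearMap.range f) hP)), fun w => ?_⟩
    have hw : KaehlerDifferential.map A B C C (f w) = 0 :=
      (KaehlerDifferential.exact_mapBaseChange_map A B C).apply_apply_eq_zero w
    have : (P.codRestrict (LinearMap.range f) hP) (f w) = ⟨f w, ⟨w, rfl⟩⟩ := Subtype.ext (by
      show f w - s (KaehlerDifferential.map A B C C (f w)) = f w
      rw [hw, map_zero, sub_zero])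
    show ((EGA41.imperfection A B C).liftQ Φ hΦ) (f.quotKerEquivRange.symm ((P.codRestrict (LinearMap.range f) hP) (f w))) = Φ w
    rw [this, LinearMap.quotKerEquivRange_symm_apply_image]
    rfl

/-- Two extensions trivial over `A` with the same characteristic homomorphism are equivalent. -/
theorem nonempty_equiv
    (h : Module.Injective C L ∨
      ∃ s : Ω[C⁄B] →ₗ[C] Ω[C⁄A], ∀ ω : Ω[C⁄B], KaehlerDifferential.map A B C C (s ω) = ω)
    (X Y : Exal.Ext B C L) (hX : X.IsTrivialOver A) (hY : Y.IsTrivialOver A)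
    (χ : ↥(EGA41.imperfection A B C) →ₗ[C] L) (hXχ : X.IsCharHom A χ) (hYχ : Y.IsCharHom A χ) :
    Nonempty (X.Equiv Y) := by
  obtain ⟨S⟩ := nonempty_sect hX
  obtain ⟨T⟩ := nonempty_sect hY
  obtain ⟨Φ, hΦ, hΦ'⟩ := S.exists_phi
  obtain ⟨Ψ, hΨ, hΨ'⟩ := T.exists_phi
  obtain ⟨ψ, hψ⟩ := exists_extension h (Ψ - Φ) fun z hz => by
    rw [LinearMap.mem_ker, LinearMap.sub_apply]
    have h1 := (hΦ' χ).mp hXχ ⟨z, hz⟩
    have h2 := (hΨ' χ).mp hYχ ⟨z, hz⟩
    rw [← h1, ← h2, sub_self]
  let δ : C → L := fun c => ψ (KaehlerDifferential.D A C c)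
  have hδadd : ∀ c c', δ (c + c') = δ c + δ c' := fun c c' => by simp [δ]
  have hδmul : ∀ c c', δ (c * c') = c • δ c' + c' • δ c := fun c c' => by simp [δ]
  have hδ : ∀ b, δ (algebraMap B C b) =
      T.comp (algebraMap B (Y.CharCarrier A) b) - S.comp (algebraMap B (X.CharCarrier A) b) := by
    intro b
    rw [← hΨ, ← hΦ, ← LinearMap.sub_apply, ← hψ, KaehlerDifferential.mapBaseChange_tmul, one_smul,
      KaehlerDifferential.map_D]
  let g : X.CharCarrier A → Y.CharCarrier A := fun e =>
    T.toAlgHom (algebraMap (X.CharCarrier A) C e) + Y.inclC A (S.comp e + δ (algebraMap (X.CharCarrier A) C e))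
  have hgproj : ∀ e, algebraMap (Y.CharCarrier A) C (g e) = algebraMap (X.CharCarrier A) C e := fun e => by
    show algebraMap (Y.CharCarrier A) C (T.toAlgHom _ + Y.inclC A _) = _
    rw [map_add, T.proj_apply, proj_inclC, add_zero]
  have hgcomp : ∀ e, T.comp (g e) = S.comp e + δ (algebraMap (X.CharCarrier A) C e) := fun e =>
    T.comp_add_incl _ _
  have hext : ∀ y y' : Y.CharCarrier A, algebraMap (Y.CharCarrier A) C y = algebraMap (Y.CharCarrier A) C y' →
      T.comp y = T.comp y' → y = y' := fun y y' h1 h2 => by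
    rw [← T.decomp y, ← T.decomp y', h1, h2]
  have hgadd : ∀ e e', g (e + e') = g e + g e' := fun e e' => hext _ _
    (by rw [hgproj, map_add, map_add, hgproj, hgproj])
    (by rw [hgcomp, T.comp_add, hgcomp, hgcomp, S.comp_add, map_add, hδadd]; abel)
  have hgmul : ∀ e e', g (e * e') = g e * g e' := fun e e' => hext _ _
    (by rw [hgproj, map_mul, map_mul, hgproj, hgproj])
    (by rw [hgcomp, T.comp_mul, hgcomp, hgcomp, hgproj, hgproj, S.comp_mul, map_mul, hδmul, smul_add, smul_add]; abel)
  have hgalg : ∀ b, g (algebraMap B (X.CharCarrier A) b) = algebraMap B (Y.CharCarrier A) b := fun b => hext _ _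
    (by rw [hgproj, ← IsScalarTower.algebraMap_apply, ← IsScalarTower.algebraMap_apply])
    (by rw [hgcomp, ← IsScalarTower.algebraMap_apply B (X.CharCarrier A) C, hδ]; abel)
  have hgbij : Function.Bijective g := by
    constructor
    · intro e e' he
      have h1 : algebraMap (X.CharCarrier A) C e = algebraMap (X.CharCarrier A) C e' := by
        rw [← hgproj e, he, hgproj]
      have h2 := hgcomp e
      rw [he, hgcomp e', h1] at h2
      rw [← S.decomp e, ← S.decomp e', h1, add_right_cancel h2]
    · intro y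
      refine ⟨S.toAlgHom (algebraMap (Y.CharCarrier A) C y) +
        X.inclC A (T.comp y - δ (algebraMap (Y.CharCarrier A) C y)), hext _ _ ?_ ?_⟩
      · rw [hgproj, map_add, S.proj_apply, proj_inclC, add_zero]
      · rw [hgcomp, map_add, S.proj_apply, proj_inclC, add_zero, S.comp_add_incl]
        abel
  let G : X.E →ₐ[B] Y.E :=
    { toFun := g
      map_one' := by
        have h0 := hgalg 1
        rw [map_one, map_one] at h0
        exact h0
      map_mul' := hgmul
      map_zero' := by
        have h0 := hgalg 0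
        rw [map_zero, map_zero] at h0
        exact h0
      map_add' := hgadd
      commutes' := hgalg }
  refine ⟨⟨AlgEquiv.ofBijective G hgbij, hgproj, fun z => ?_⟩⟩
  show g (X.inclC A z) = Y.inclC A z
  refine hext _ _ ?_ ?_
  · rw [hgproj, proj_inclC, proj_inclC]
  · rw [hgcomp, proj_inclC, S.comp_inclC, T.comp_inclC]
    simp [δ]

/-- Every map extending to `C ⊗ Ω_{B/A}` is a characteristic homomorphism. -/
theorem exists_ext_of_linearMap (Φ : C ⊗[B] Ω[B⁄A] →ₗ[C] L) :
    ∃ X : Exal.Ext B C L, X.IsTrivialOver A ∧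
      X.IsCharHom A (Φ.comp (EGA41.imperfection A B C).subtype) := by
  letI : Module B L := Module.compHom L (algebraMap B C)
  letI : Module A L := Module.compHom L (algebraMap A C)
  haveI : IsScalarTower B C L := IsScalarTower.of_algebraMap_smul fun _ _ => rfl
  haveI : IsScalarTower A B L := IsScalarTower.of_algebraMap_smul fun a l => by
    show algebraMap B C (algebraMap A B a) • l = algebraMap A C a • l
    rw [← IsScalarTower.algebraMap_apply]
  let φ : Ω[B⁄A] →ₗ[B] L := (Φ.restrictScalars B).comp (TensorProduct.mk B C (Ω[B⁄A]) 1)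
  let D : Derivation A B L := φ.compDer (KaehlerDifferential.D A B)
  let X : Exal.Ext B C L := Exal.Ext.ofDerivation (C := C) D
  have hinl : ∀ a : A, (TrivSqZeroExt.inl (algebraMap A C a) : TrivSqZeroExt C L) =
      TrivSqZeroExt.inl (algebraMap B C (algebraMap A B a)) + TrivSqZeroExt.inr (D (algebraMap A B a)) := fun a => by
    rw [Derivation.map_algebraMap, TrivSqZeroExt.inr_zero, add_zero, ← IsScalarTower.algebraMap_apply]
  letI : Module Cᵐᵒᵖ L := Exal.opModule C L
  haveI : IsCentralScalar C L := Exal.isCentralScalar_opModule C L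
  let S : Sect A X :=
    { toAlgHom :=
        { toFun := fun c => (TrivSqZeroExt.inl c : TrivSqZeroExt C L)
          map_one' := TrivSqZeroExt.inl_one L
          map_mul' := fun c c' => TrivSqZeroExt.inl_mul L c c'
          map_zero' := TrivSqZeroExt.inl_zero L
          map_add' := fun c c' => TrivSqZeroExt.inl_add L c c'
          commutes' := hinl }
      proj_apply := fun _ => rfl }
  refine ⟨X, isTrivialOver_of_sect S, ?_⟩
  obtain ⟨Φ', hΦ', hchar⟩ := S.exists_phi
  rw [hchar]
  intro z
  refine LinearMap.congr_fun (LinearMap.ext_on_range span_one_tmul_D fun b => ?_ : Φ = Φ') _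
  rw [hΦ']
  have he : algebraMap B (X.CharCarrier A) b = S.toAlgHom (algebraMap B C b) + X.inclC A (D b) := rfl
  rw [he, S.comp_add_incl]
  rfl

end Groth.Agent.CharHomLib
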