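import Groth.Agent.CharHomLib.Basic

/-!
# Exactness along towers, for kernels of maps of differentials
-/

set_option autoImplicit false
universe u v w

open scoped TensorProduct

namespace Groth.Agent.CharHomLib

/-- Rank additivity for a map carrying `P` onto `Q`. -/
theorem rank_eq_add_of_onto {R : Type v} [DivisionRing R] {V V' : Type w} [AddCommGroup V] [Module R V]
    [AddCommGroup V'] [Module R V'] (g : V →ₗ[R] V') (P K₀ : Submodule R V) (Q : Submodule R V')
    (hmaps : ∀ x ∈ P, g x ∈ Q) (honto : ∀ y ∈ Q, ∃ x ∈ P, g x = y) (hK : P ⊓ LinearMap.ker g = K₀) :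
    Module.rank R P = Module.rank R Q + Module.rank R K₀ := by
  let φ : P →ₗ[R] Q := g.restrict hmaps
  have hφ : Function.Surjective φ := fun y => by
    obtain ⟨x, hx, hxy⟩ := honto y.1 y.2
    exact ⟨⟨x, hx⟩, Subtype.ext hxy⟩
  have hker : LinearMap.ker φ = Submodule.comap P.subtype K₀ := by
    ext x
    rw [LinearMap.mem_ker, Submodule.mem_comap, ← hK, Submodule.mem_inf]
    exact ⟨fun h => ⟨x.2, congrArg Subtype.val h⟩, fun h => Subtype.ext h.2⟩
  rw [← LinearMap.rank_range_add_rank_ker φ, rank_range_of_surjective φ hφ, hker,
    (Submodule.comapSubtypeEquivOfLe (hK ▸ inf_le_left : K₀ ≤ P)).rank_eq]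

variable {A B C : Type*} [CommRing A] [CommRing B] [CommRing C] [Algebra A B] [Algebra B C] [Algebra A C]
  [IsScalarTower A B C]

/-- The kernel of `Ω_{C/A} → Ω_{C/B}` is spanned by the differentials of elements of `B`. -/
theorem ker_map_le_span : LinearMap.ker (KaehlerDifferential.map A B C C) ≤
    Submodule.span C (Set.range fun b : B => KaehlerDifferential.D A C (algebraMap B C b)) := by
  intro x hx
  rw [← KaehlerDifferential.range_mapBaseChange] at hx
  obtain ⟨w, rfl⟩ := hx
  induction w using TensorProduct.induction_on with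
  | zero => rw [map_zero]; exact zero_mem _
  | tmul c ω =>
    have hω : ω ∈ Submodule.span B (Set.range (KaehlerDifferential.D A B)) := by
      rw [KaehlerDifferential.span_range_derivation]; trivial
    induction hω using Submodule.span_induction generalizing c with
    | mem x hx =>
      obtain ⟨b, rfl⟩ := hx
      rw [KaehlerDifferential.mapBaseChange_tmul, KaehlerDifferential.map_D]
      exact Submodule.smul_mem _ _ (Submodule.subset_span ⟨b, rfl⟩)
    | zero => rw [TensorProduct.tmul_zero, map_zero]; exact zero_mem _
    | add x y _ _ hx hy => rw [TensorProduct.tmul_add, map_add]; exact add_mem (hx c) (hy c)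
    | smul b x _ hx => rw [← TensorProduct.smul_tmul]; exact hx _
  | add x y hx hy => rw [map_add]; exact add_mem hx hy

end Groth.Agent.CharHomLib
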