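import Groth.Agent.CharHomLib.Basic

/-!
# The characteristic homomorphism of the infinitesimal extension of an ideal
-/

set_option autoImplicit false
universe u v

open scoped TensorProduct

namespace Groth.Agent.CharHomLib

variable {Λ : Type u} {A B : Type v} [CommRing Λ] [CommRing A] [CommRing B] [Algebra Λ A] [Algebra Λ B]
  [Algebra A B] [IsScalarTower Λ A B] {K : Ideal B}

/-- The map `C ⊗_A Ω_{A/Λ} → C ⊗_B Ω_{B/Λ}`. -/
noncomputable def upMap (Λ : Type u) (A B : Type v) [CommRing Λ] [CommRing A] [CommRing B] [Algebra Λ A]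
    [Algebra Λ B] [Algebra A B] [IsScalarTower Λ A B] (K : Ideal B) :
    (B ⧸ K) ⊗[A] Ω[A⁄Λ] →ₗ[B ⧸ K] (B ⧸ K) ⊗[B] Ω[B⁄Λ] :=
  ((KaehlerDifferential.mapBaseChange Λ A B).baseChange (B ⧸ K)).comp
    (TensorProduct.AlgebraTensorModule.cancelBaseChange A B (B ⧸ K) (B ⧸ K) Ω[A⁄Λ]).symm.toLinearMap

theorem upMap_tmul (a : A) :
    upMap Λ A B K ((1 : B ⧸ K) ⊗ₜ[A] KaehlerDifferential.D Λ A a) =
      (1 : B ⧸ K) ⊗ₜ[B] KaehlerDifferential.D Λ B (algebraMap A B a) := by
  simp [upMap, TensorProduct.AlgebraTensorModule.cancelBaseChange_symm_tmul, KaehlerDifferential.mapBaseChange_tmul,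
    KaehlerDifferential.map_D]

theorem mapBaseChange_upMap (w : (B ⧸ K) ⊗[A] Ω[A⁄Λ]) :
    KaehlerDifferential.mapBaseChange Λ B (B ⧸ K) (upMap Λ A B K w) =
      KaehlerDifferential.mapBaseChange Λ A (B ⧸ K) w := by
  refine LinearMap.congr_fun (f := (KaehlerDifferential.mapBaseChange Λ B (B ⧸ K)).comp (upMap Λ A B K))
    (g := KaehlerDifferential.mapBaseChange Λ A (B ⧸ K)) (LinearMap.ext_on_range span_one_tmul_D fun a => ?_) w
  rw [LinearMap.comp_apply, upMap_tmul, KaehlerDifferential.mapBaseChange_tmul, KaehlerDifferential.mapBaseChange_tmul,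
    KaehlerDifferential.map_D, KaehlerDifferential.map_D, ← IsScalarTower.algebraMap_apply]

/-- Elements of the kernel of `C ⊗_B Ω_{B/Λ} → Ω_{C/Λ}` come from the ideal. -/
theorem exists_mem_eq (w : (B ⧸ K) ⊗[B] Ω[B⁄Λ])
    (hw : KaehlerDifferential.mapBaseChange Λ B (B ⧸ K) w = 0) :
    ∃ x : K, (1 : B ⧸ K) ⊗ₜ[B] KaehlerDifferential.D Λ B (x : B) = w := by
  have hw' : w ∈ (LinearMap.ker (KaehlerDifferential.mapBaseChange Λ B (B ⧸ K))).restrictScalars B := hw
  rw [← KaehlerDifferential.range_kerCotangentToTensor Λ B (B ⧸ K) Ideal.Quotient.mk_surjective] at hw'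
  obtain ⟨t, ht⟩ := hw'
  obtain ⟨x, rfl⟩ := Ideal.toCotangent_surjective _ t
  rw [KaehlerDifferential.kerCotangentToTensor_toCotangent] at ht
  exact ⟨⟨x.1, Ideal.Quotient.eq_zero_iff_mem.mp x.2⟩, ht⟩

theorem one_tmul_D_eq_zero (x : K) (h : K.toCotangent x = 0) :
    (1 : B ⧸ K) ⊗ₜ[B] KaehlerDifferential.D Λ B (x : B) = 0 := by
  have h2 : (x : B) ∈ K ^ 2 := (Ideal.toCotangent_eq_zero K x).mp h
  rw [pow_two] at h2
  refine Submodule.mul_induction_on h2 (fun a ha b hb => ?_) (fun a b ha hb => ?_)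
  · rw [Derivation.leibniz, TensorProduct.tmul_add, ← TensorProduct.smul_tmul, ← TensorProduct.smul_tmul,
      ← Algebra.algebraMap_eq_smul_one, ← Algebra.algebraMap_eq_smul_one, Ideal.Quotient.algebraMap_eq,
      Ideal.Quotient.eq_zero_iff_mem.mpr ha, Ideal.Quotient.eq_zero_iff_mem.mpr hb, TensorProduct.zero_tmul,
      TensorProduct.zero_tmul, add_zero]
  · rw [map_add, TensorProduct.tmul_add, ha, hb, add_zero]

/-- The retraction attached to a section of the infinitesimal extension. -/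
theorem exists_infinitesimal_phi (htriv : ((Exal.Ext.infinitesimal K).restrictBase A).IsTrivialOver Λ)
    (χ : ↥(EGA41.imperfection Λ A (B ⧸ K)) →ₗ[B ⧸ K] K.Cotangent)
    (hχ : ((Exal.Ext.infinitesimal K).restrictBase A).IsCharHom Λ χ) :
    ∃ Φ : (B ⧸ K) ⊗[B] Ω[B⁄Λ] →ₗ[B ⧸ K] K.Cotangent,
      (∀ x : K, Φ ((1 : B ⧸ K) ⊗ₜ[B] KaehlerDifferential.D Λ B (x : B)) = K.toCotangent x) ∧
      ∀ z : ↥(EGA41.imperfection Λ A (B ⧸ K)), χ z = Φ (upMap Λ A B K z) := by
  obtain ⟨S⟩ := nonempty_sect htriv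
  obtain ⟨Ψ, hΨ, hΨ'⟩ := S.exists_phi
  let q : B →+* ((Exal.Ext.infinitesimal K).restrictBase A).CharCarrier Λ := Ideal.Quotient.mk (K ^ 2)
  have hpq : ∀ b, algebraMap (((Exal.Ext.infinitesimal K).restrictBase A).CharCarrier Λ) (B ⧸ K) (q b) =
      Ideal.Quotient.mk K b := fun b => rfl
  let Dl : B →ₗ[Λ] K.Cotangent :=
    { toFun := fun b => S.comp (q b)
      map_add' := fun b b' => by rw [map_add, S.comp_add]
      map_smul' := fun a b => by
        have h0 : q (algebraMap Λ B a) = algebraMap Λ (((Exal.Ext.infinitesimal K).restrictBase A).CharCarrier Λ) a := by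
          rw [IsScalarTower.algebraMap_apply Λ A B]; rfl
        rw [Algebra.smul_def, map_mul, S.comp_mul, h0, S.comp_algebraMap, smul_zero, add_zero,
          ← IsScalarTower.algebraMap_apply, RingHom.id_apply]
        rw [IsScalarTower.algebraMap_apply Λ B (B ⧸ K), IsScalarTower.algebraMap_smul, IsScalarTower.algebraMap_smul] }
  let Dv : Derivation Λ B K.Cotangent :=
    { toLinearMap := Dl
      map_one_eq_zero' := by
        show S.comp (q 1) = 0
        rw [map_one, S.comp_one]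
      leibniz' := fun b b' => by
        show S.comp (q (b * b')) = b • S.comp (q b') + b' • S.comp (q b)
        rw [map_mul, S.comp_mul, hpq, hpq, ← Ideal.Quotient.algebraMap_eq K, IsScalarTower.algebraMap_smul,
          IsScalarTower.algebraMap_smul] }
  refine ⟨LinearMap.liftBaseChange (B ⧸ K) Dv.liftKaehlerDifferential, fun x => ?_, fun z => ?_⟩
  · rw [LinearMap.liftBaseChange_tmul, one_smul, Derivation.liftKaehlerDifferential_comp_D]
    show S.comp (q (x : B)) = K.toCotangent x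
    have hx : q (x : B) = ((Exal.Ext.infinitesimal K).restrictBase A).inclC Λ (K.toCotangent x) :=
      (Ideal.toCotangent_to_quotient_square K x).symm
    rw [hx, S.comp_inclC]
  · rw [(hΨ' χ).mp hχ z]
    refine LinearMap.congr_fun (f := Ψ) (g := (LinearMap.liftBaseChange (B ⧸ K) Dv.liftKaehlerDifferential).comp
      (upMap Λ A B K)) (LinearMap.ext_on_range span_one_tmul_D fun a => ?_) _
    rw [hΨ, LinearMap.comp_apply, upMap_tmul, LinearMap.liftBaseChange_tmul, one_smul,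
      Derivation.liftKaehlerDifferential_comp_D]
    rfl

/-- `χ z = 0` iff the image of `z` in `C ⊗_B Ω_{B/Λ}` vanishes. -/
theorem charHom_eq_zero_iff (htriv : ((Exal.Ext.infinitesimal K).restrictBase A).IsTrivialOver Λ)
    (χ : ↥(EGA41.imperfection Λ A (B ⧸ K)) →ₗ[B ⧸ K] K.Cotangent)
    (hχ : ((Exal.Ext.infinitesimal K).restrictBase A).IsCharHom Λ χ)
    (z : ↥(EGA41.imperfection Λ A (B ⧸ K))) : χ z = 0 ↔ upMap Λ A B K z = 0 := by
  obtain ⟨Φ, hΦ, hΦ'⟩ := exists_infinitesimal_phi htriv χ hχ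
  obtain ⟨x, hx⟩ := exists_mem_eq (upMap Λ A B K z) (by rw [mapBaseChange_upMap]; exact z.2)
  rw [hΦ' z, ← hx, hΦ]
  constructor
  · exact one_tmul_D_eq_zero x
  · intro h
    rw [← hΦ, h, map_zero]

end Groth.Agent.CharHomLib
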